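import Groth.Agent.GrLib.LES
import Groth.Agent.GrLib.Acyclic
import Groth.Agent.LocCoh.Vanishing

/-!
# Classes in local cohomology induced by elements, and top local cohomology
-/

set_option autoImplicit false
set_option linter.unusedSectionVars false
set_option linter.style.haveILetI false

universe u

open DirectSum Groth.Agent.GrLib

namespace Groth.Agent.GrDualLib

variable {R : Type u} [CommRing R] {σ : Type u} [SetLike σ R] [AddSubgroupClass σ R]
  {𝒜 : ℤ → σ} [GradedRing 𝒜]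
variable {M : Type u} [AddCommGroup M] [Module R M] {τ : Type u} [SetLike τ M] [AddSubgroupClass τ M]
  {ℳ : ℤ → τ} [Decomposition ℳ] [SetLike.GradedSMul 𝒜 ℳ]
variable {N : Type u} [AddCommGroup N] [Module R N] {τ' : Type u} [SetLike τ' N] [AddSubgroupClass τ' N]
  {𝒩 : ℤ → τ'} [Decomposition 𝒩] [SetLike.GradedSMul 𝒜 𝒩]
variable (E : GrLC.StarInjRes 𝒜 ℳ) (F : GrLC.StarInjRes 𝒜 𝒩) (I : GrLC.StarInjRes 𝒜 𝒜)
  (a : HomogeneousIdeal 𝒜) (n : ℕ)

theorem mapH_add {φ ψ : M →ₗ[R] N} {d : ℤ} (hφ : GrLC.IsGrHomDeg ℳ 𝒩 φ d) (hψ : GrLC.IsGrHomDeg ℳ 𝒩 ψ d)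
    (h : GrLC.IsGrHomDeg ℳ 𝒩 (φ + ψ) d) :
    mapH E F a h n = mapH E F a hφ n + mapH E F a hψ n := by
  rw [mapH_eq a h
    { u := fun j => (someLift E F φ d hφ).u j + (someLift E F ψ d hψ).u j
      deg := fun j k x hx => add_mem ((someLift E F φ d hφ).deg j k x hx) ((someLift E F ψ d hψ).deg j k x hx)
      comm₀ := fun m => by simp [(someLift E F φ d hφ).comm₀, (someLift E F ψ d hψ).comm₀]
      comm := fun j x => by simp [(someLift E F φ d hφ).comm, (someLift E F ψ d hψ).comm] }]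
  refine LinearMap.ext fun x => ?_
  obtain ⟨z, rfl⟩ := toH_surjective a n x
  rfl

theorem toSpanSingleton_deg {g : ℤ} {x : M} (hx : x ∈ ℳ g) :
    GrLC.IsGrHomDeg 𝒜 ℳ (LinearMap.toSpanSingleton R M x) g := fun _ _ hr => smul_mem hr hx

/-- The map induced by a homogeneous element. -/
noncomputable def muPiece (g : ℤ) : ℳ g →+ (I.H a n →ₗ[R] E.H a n) :=
  AddMonoidHom.mk' (fun x => mapH I E a (toSpanSingleton_deg (𝒜 := 𝒜) x.2) n) fun x y => by
    have hxy : GrLC.IsGrHomDeg 𝒜 ℳ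
        (LinearMap.toSpanSingleton R M (x : M) + LinearMap.toSpanSingleton R M (y : M)) g := fun k r hr =>
      add_mem (toSpanSingleton_deg (𝒜 := 𝒜) x.2 k r hr) (toSpanSingleton_deg (𝒜 := 𝒜) y.2 k r hr)
    rw [← mapH_add I E a n _ _ hxy]
    exact mapH_congr a (LinearMap.ext fun r => by simp [smul_add]) rfl _ _ n

/-- The additive map `M → Hom(H(R), H(M))`. -/
noncomputable def muAdd : M →+ (I.H a n →ₗ[R] E.H a n) :=
  (DirectSum.toAddMonoid fun g => muPiece E I a n g).comp (decomposeAddEquiv ℳ).toAddMonoidHom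

theorem muAdd_of_mem {g : ℤ} {x : M} (hx : x ∈ ℳ g) :
    muAdd E I a n x = mapH I E a (toSpanSingleton_deg (𝒜 := 𝒜) hx) n := by
  show DirectSum.toAddMonoid (fun g => muPiece E I a n g) (decompose ℳ x) = _
  rw [decompose_of_mem ℳ hx, DirectSum.toAddMonoid_of]
  rfl

/-- Elements of `M` act as maps from the local cohomology of `R` to that of `M`. -/
noncomputable def mu : M →ₗ[R] (I.H a n →ₗ[R] E.H a n) :=
  linearOfHom 𝒜 ℳ (muAdd E I a n) fun b g r hr x hx => by
    rw [muAdd_of_mem E I a n hx, muAdd_of_mem E I a n (smul_mem hr hx)]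
    have hcomp : GrLC.IsGrHomDeg 𝒜 ℳ (LinearMap.toSpanSingleton R M x ∘ₗ (r • LinearMap.id)) (b + g) :=
      deg_comp (smul_id_grHomDeg (ℳ := 𝒜) hr) (toSpanSingleton_deg (𝒜 := 𝒜) hx)
    rw [mapH_congr a (ψ := LinearMap.toSpanSingleton R M x ∘ₗ (r • LinearMap.id))
        (LinearMap.ext fun t => by simp [smul_smul, mul_comm]) rfl _ hcomp n,
      mapH_comp a (smul_id_grHomDeg (ℳ := 𝒜) hr) (toSpanSingleton_deg (𝒜 := 𝒜) hx) hcomp n (F := I),
      mapH_smul_id a hr (smul_id_grHomDeg (ℳ := 𝒜) hr) n]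
    exact LinearMap.ext fun h => by simp

theorem mu_of_mem {g : ℤ} {x : M} (hx : x ∈ ℳ g) :
    mu E I a n x = mapH I E a (toSpanSingleton_deg (𝒜 := 𝒜) hx) n :=
  muAdd_of_mem E I a n hx

theorem mu_mem {g e : ℤ} {x : M} (hx : x ∈ ℳ g) {h : I.H a n} (hh : h ∈ I.Hgr a n e) :
    mu E I a n x h ∈ E.Hgr a n (e + g) := by
  rw [mu_of_mem E I a n hx]
  exact mapH_grHomDeg a _ n e h hh

theorem mapH_mu {ψ : M →ₗ[R] N} {d : ℤ} (hψ : GrLC.IsGrHomDeg ℳ 𝒩 ψ d) (x : M) (h : I.H a n) :
    mapH E F a hψ n (mu E I a n x h) = mu F I a n (ψ x) h := by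
  refine induction ℳ (motive := fun x => mapH E F a hψ n (mu E I a n x h) = mu F I a n (ψ x) h)
    (by simp) (fun g y hy => ?_) (fun y z hy hz => by simp [hy, hz]) x
  have hcomp : GrLC.IsGrHomDeg 𝒜 𝒩 (ψ ∘ₗ LinearMap.toSpanSingleton R M y) (g + d) :=
    deg_comp (toSpanSingleton_deg (𝒜 := 𝒜) hy) hψ
  rw [mu_of_mem E I a n hy, mu_of_mem F I a n (hψ g y hy), ← LinearMap.comp_apply,
    ← mapH_comp a (toSpanSingleton_deg (𝒜 := 𝒜) hy) hψ hcomp n]
  exact LinearMap.congr_fun (mapH_congr a (LinearMap.ext fun r => by simp) rfl _ _ n) h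

theorem mu_ring (r : R) (h : I.H a n) : mu I I a n r h = r • h := by
  have h1 : mu I I a n (1 : R) = LinearMap.id := by
    rw [mu_of_mem I I a n (SetLike.one_mem_graded 𝒜)]
    rw [mapH_congr a (ψ := LinearMap.id) (LinearMap.ext fun t => by simp) rfl _ (grHomDeg_zero_iff.2 fun _ _ h => h) n,
      mapH_id]
  conv_lhs => rw [← mul_one r, ← smul_eq_mul, map_smul, h1]
  rfl

variable {n}

theorem subsingleton_H_succ [IsNoetherianRing R] (hn : ringKrullDim R = n) :
    Subsingleton (E.H a (n + 1)) := by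
  obtain ⟨e⟩ := nonempty_H_equiv E a (n + 1)
  haveI := LocCoh.subsingleton_H_of_supportDim_lt (I := a.toIdeal) (M := M) (i := n + 1)
    (lt_of_le_of_lt (Module.supportDim_le_ringKrullDim R M) (by rw [hn]; exact_mod_cast Nat.lt_succ_self n))
  exact e.toEquiv.subsingleton

section free

variable {t : ℕ} (g : Fin t → ℤ)

theorem single_mem (i : Fin t) : (Pi.single i 1 : Fin t → R) ∈ freeGr 𝒜 g (g i) := by
  classical
  refine mem_freeGr.2 fun j => ?_
  by_cases hj : j = i
  · subst hj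
    rw [Pi.single_eq_same, sub_self]
    exact SetLike.one_mem_graded 𝒜
  · rw [Pi.single_eq_of_ne hj]
    exact zero_mem _

theorem proj_deg (i : Fin t) :
    GrLC.IsGrHomDeg (freeGr 𝒜 g) 𝒜 (LinearMap.proj i : (Fin t → R) →ₗ[R] R) (-g i) := fun k v hv => by
  rw [← sub_eq_add_neg]
  exact mem_freeGr.1 hv i

theorem single_comp_deg (i : Fin t) :
    GrLC.IsGrHomDeg (freeGr 𝒜 g) (freeGr 𝒜 g)
      (LinearMap.toSpanSingleton R (Fin t → R) (Pi.single i 1) ∘ₗ LinearMap.proj i) 0 := by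
  letI := freeDecomp 𝒜 g
  rw [← neg_add_cancel (g i)]
  exact deg_comp (proj_deg g i) (toSpanSingleton_deg (𝒜 := 𝒜) (single_mem g i))

/-- The local cohomology of a free module is spanned by the classes of its basis. -/
theorem exists_eq_free :
    letI := freeDecomp 𝒜 g
    ∀ (G : GrLC.StarInjRes 𝒜 (freeGr 𝒜 g)) (n : ℕ) (z : G.H a n),
      ∃ h : Fin t → I.H a n, ∑ i, mu G I a n (Pi.single i 1 : Fin t → R) (h i) = z := by
  classical
  letI := freeDecomp 𝒜 g
  intro G n z
  refine ⟨fun i => mapH G I a (proj_deg g i) n z, ?_⟩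
  have key : ∀ (s : Finset (Fin t)) (hs : GrLC.IsGrHomDeg (freeGr 𝒜 g) (freeGr 𝒜 g)
      (∑ i ∈ s, LinearMap.toSpanSingleton R (Fin t → R) (Pi.single i 1) ∘ₗ LinearMap.proj i) 0),
      mapH G G a hs n z = ∑ i ∈ s, mu G I a n (Pi.single i 1 : Fin t → R) (mapH G I a (proj_deg g i) n z) := by
    intro s
    induction s using Finset.induction_on with
    | empty =>
      intro hs
      refine Eq.trans ?_ Finset.sum_empty.symm
      have h0 : GrLC.IsGrHomDeg (freeGr 𝒜 g) (freeGr 𝒜 g)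
          ((0 : (Fin t → R) →ₗ[R] Fin t → R) + 0) 0 := fun k x _ => by simp
      have h0' : GrLC.IsGrHomDeg (freeGr 𝒜 g) (freeGr 𝒜 g) (0 : (Fin t → R) →ₗ[R] Fin t → R) 0 :=
        fun k x _ => by simp
      have := LinearMap.congr_fun (mapH_add G G a n h0' h0' h0) z
      rw [mapH_congr a (add_zero _) rfl h0 h0' n, LinearMap.add_apply] at this
      rw [mapH_congr a Finset.sum_empty rfl hs h0' n]
      exact left_eq_add.1 this
    | insert i s hi IH =>
      intro hs
      have hs' : GrLC.IsGrHomDeg (freeGr 𝒜 g) (freeGr 𝒜 g)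
          (∑ i ∈ s, LinearMap.toSpanSingleton R (Fin t → R) (Pi.single i 1) ∘ₗ LinearMap.proj i) 0 := fun k x hx => by
        rw [LinearMap.sum_apply]
        exact sum_mem fun j _ => single_comp_deg g j k x hx
      rw [mapH_congr a (Finset.sum_insert hi) rfl hs (fun k x hx => add_mem (single_comp_deg g i k x hx) (hs' k x hx)) n,
        mapH_add G G a n (single_comp_deg g i) hs', LinearMap.add_apply, Finset.sum_insert hi, IH hs']
      congr 1
      have hc : GrLC.IsGrHomDeg (freeGr 𝒜 g) (freeGr 𝒜 g)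
          (LinearMap.toSpanSingleton R (Fin t → R) (Pi.single i 1) ∘ₗ LinearMap.proj i) (-g i + g i) :=
        deg_comp (proj_deg g i) (toSpanSingleton_deg (𝒜 := 𝒜) (single_mem g i))
      rw [mu_of_mem G I a n (single_mem g i), ← LinearMap.comp_apply, ← mapH_comp a (proj_deg g i) _ hc n]
      exact LinearMap.congr_fun (mapH_congr a rfl (by simp) _ _ n) z
  have hid : ∑ i, LinearMap.toSpanSingleton R (Fin t → R) (Pi.single i 1) ∘ₗ LinearMap.proj i = LinearMap.id := by
    refine LinearMap.ext fun v => ?_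
    simp only [LinearMap.sum_apply, LinearMap.comp_apply, LinearMap.proj_apply, LinearMap.toSpanSingleton_apply,
      LinearMap.id_apply]
    exact (pi_eq_sum_univ' v).symm
  rw [← key Finset.univ (by rw [hid]; exact grHomDeg_zero_iff.2 fun _ _ h => h),
    mapH_congr a hid rfl _ (grHomDeg_zero_iff.2 fun _ _ h => h) n, mapH_id, LinearMap.id_apply]

end free

section finite

variable [IsNoetherianRing R] (hn : ringKrullDim R = n) {t : ℕ} {g : Fin t → ℤ} {x : Fin t → M}
  (hx : ∀ i, x i ∈ ℳ (g i)) (hspan : Submodule.span R (Set.range x) = ⊤)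

include hx in
theorem gens_grHom : GrLC.IsGrHom (freeGr 𝒜 g) ℳ (Fintype.linearCombination R x) := fun h v hv => by
  rw [Fintype.linearCombination_apply]
  refine sum_mem fun i _ => ?_
  have := smul_mem (ℳ := ℳ) (mem_freeGr.1 hv i) (hx i)
  rwa [sub_add_cancel] at this

include hspan in
theorem gens_surjective : Function.Surjective (Fintype.linearCombination R x) := by
  rw [← LinearMap.range_eq_top, Fintype.range_linearCombination, hspan]

include hn hx hspan in
/-- Top local cohomology is generated by the classes of generators. -/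
theorem mu_spans (z : E.H a n) : ∃ h : Fin t → I.H a n, ∑ i, mu E I a n (x i) (h i) = z := by
  classical
  letI := freeDecomp 𝒜 g
  set π := Fintype.linearCombination R x
  have hπ := gens_grHom (𝒜 := 𝒜) hx
  have hK : (LinearMap.ker π).IsHomogeneous (freeGr 𝒜 g) := isHomogeneous_ker hπ
  letI := subDecomp (freeGr 𝒜 g) hK
  let G : GrLC.StarInjRes 𝒜 (freeGr 𝒜 g) := starRes 𝒜 (freeGr 𝒜 g)
  let K : GrLC.StarInjRes 𝒜 (subGr (freeGr 𝒜 g) (LinearMap.ker π)) := starRes 𝒜 _
  obtain ⟨δ, -, -, hex⟩ := exists_les K E G a (subtype_grHom _) (Submodule.injective_subtype _) hπ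
    (gens_surjective hspan) (LinearMap.exact_subtype_ker_map π)
  haveI := subsingleton_H_succ K a hn
  obtain ⟨w, rfl⟩ := ((hex n).2.1 z).1 (Subsingleton.elim _ _)
  obtain ⟨h, rfl⟩ := exists_eq_free I a g G n w
  refine ⟨h, ?_⟩
  rw [map_sum]
  refine Finset.sum_congr rfl fun i _ => ?_
  rw [mapH_mu G E I a n (grHomDeg_zero_iff.2 hπ)]
  congr 2
  simp [Fintype.linearCombination_apply, Pi.single_apply, ite_smul]

include hn hx hspan in
/-- Relations between classes in top local cohomology come from relations between the generators. -/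
theorem mu_relations {h : Fin t → I.H a n} (h0 : ∑ i, mu E I a n (x i) (h i) = 0) :
    ∃ (s : ℕ) (v : Fin s → Fin t → R) (h' : Fin s → I.H a n),
      (∀ l, ∑ i, v l i • x i = 0) ∧ ∀ i, h i = ∑ l, v l i • h' l := by
  classical
  letI := freeDecomp 𝒜 g
  set π := Fintype.linearCombination R x
  have hπ := gens_grHom (𝒜 := 𝒜) hx
  have hK : (LinearMap.ker π).IsHomogeneous (freeGr 𝒜 g) := isHomogeneous_ker hπ
  letI := subDecomp (freeGr 𝒜 g) hK
  let G : GrLC.StarInjRes 𝒜 (freeGr 𝒜 g) := starRes 𝒜 (freeGr 𝒜 g)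
  let K : GrLC.StarInjRes 𝒜 (subGr (freeGr 𝒜 g) (LinearMap.ker π)) := starRes 𝒜 _
  obtain ⟨δ, -, -, hex⟩ := exists_les K E G a (subtype_grHom _) (Submodule.injective_subtype _) hπ
    (gens_surjective hspan) (LinearMap.exact_subtype_ker_map π)
  have hz : mapH G E a (grHomDeg_zero_iff.2 hπ) n (∑ i, mu G I a n (Pi.single i 1 : Fin t → R) (h i)) = 0 := by
    rw [map_sum, ← h0]
    refine Finset.sum_congr rfl fun i _ => ?_
    rw [mapH_mu G E I a n (grHomDeg_zero_iff.2 hπ)]
    congr 2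
    simp [Fintype.linearCombination_apply, Pi.single_apply, ite_smul]
  obtain ⟨w, hw⟩ := ((hex n).1 _).1 hz
  haveI : Module.Finite R (LinearMap.ker π) := Module.Finite.iff_fg.2 (IsNoetherian.noetherian _)
  obtain ⟨s, v, gv, hv, hvspan⟩ := exists_hom_generators (ℳ := subGr (freeGr 𝒜 g) (LinearMap.ker π)) 𝒜
  obtain ⟨h', rfl⟩ := mu_spans (M := LinearMap.ker π) K I a hn hv hvspan w
  refine ⟨s, fun l => (v l : Fin t → R), h', fun l => ?_, fun i => ?_⟩
  · have := (v l).2
    rwa [LinearMap.mem_ker, Fintype.linearCombination_apply] at this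
  · have := congrArg (mapH G I a (proj_deg g i) n) hw
    simp only [map_sum, mapH_mu, Submodule.subtype_apply, LinearMap.proj_apply, mu_ring] at this
    rw [Finset.sum_eq_single i (fun j _ hj => by rw [Pi.single_eq_of_ne hj.symm, zero_smul])
      (fun hi => absurd (Finset.mem_univ i) hi), Pi.single_eq_same, one_smul] at this
    exact this.symm

end finite

end Groth.Agent.GrDualLib
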