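import Groth.Agent.GrLib.Basic
import Groth.Prelude.Def_GrSeg
import Mathlib.RingTheory.FiniteType
import Mathlib.RingTheory.FiniteLength
import Mathlib.LinearAlgebra.Dual.Lemmas
import Mathlib.Data.Int.LeastGreatest

/-!
# The graded dual of a graded module over an algebra with `R₀ = k`
-/

set_option autoImplicit false
set_option linter.unusedSectionVars false
set_option linter.style.haveILetI false

universe u

open DirectSum Groth.Agent.GrLib

namespace Groth.Agent.GrDualLib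

variable {k : Type u} [Field k] {R : Type u} [CommRing R] [Algebra k R]
  {𝒜 : ℤ → Submodule k R} [GradedAlgebra 𝒜]
variable {M : Type u} [AddCommGroup M] [Module R M] [Module k M] [IsScalarTower k R M]
  {τ : Type u} [SetLike τ M] [AddSubgroupClass τ M] {ℳ : ℤ → τ} [Decomposition ℳ] [SetLike.GradedSMul 𝒜 ℳ]
variable {D : Type u} [AddCommGroup D] [Module R D] [Module k D] [IsScalarTower k R D]
  {τ' : Type u} [SetLike τ' D] [AddSubgroupClass τ' D] {𝒟 : ℤ → τ'} [Decomposition 𝒟] [SetLike.GradedSMul 𝒜 𝒟]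
variable {β : D →ₗ[k] M →ₗ[k] k}

theorem algebraMap_mem (c : k) : algebraMap k R c ∈ 𝒜 0 :=
  SetLike.algebraMap_mem_graded 𝒜 c

variable (𝒜) in
include 𝒜 in
theorem proj_smul_k (g : ℤ) (c : k) (x : M) : proj ℳ g (c • x) = c • proj ℳ g x := by
  rw [← algebraMap_smul R c, proj_smul' (𝒜 := 𝒜) (algebraMap_mem c), sub_zero, algebraMap_smul]

variable (𝒜) in
include 𝒜 in
theorem smul_k_mem {g : ℤ} {x : M} (c : k) (hx : x ∈ ℳ g) : c • x ∈ ℳ g := by
  rw [← algebraMap_smul R c]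
  simpa using smul_mem (𝒜 := 𝒜) (algebraMap_mem (𝒜 := 𝒜) c) hx

variable (𝒜 ℳ) in
/-- A piece, as a `k`-subspace. -/
def kPiece (g : ℤ) : Submodule k M where
  carrier := {x | x ∈ ℳ g}
  add_mem' := add_mem
  zero_mem' := zero_mem _
  smul_mem' c _ hx := smul_k_mem 𝒜 c hx

theorem mem_kPiece {g : ℤ} {x : M} : x ∈ kPiece 𝒜 ℳ g ↔ x ∈ ℳ g := Iff.rfl

variable (𝒜 ℳ) in
/-- The component of degree `g`, as a `k`-linear map. -/
noncomputable def kProj (g : ℤ) : M →ₗ[k] M :=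
  { proj ℳ g with map_smul' := fun c x => proj_smul_k 𝒜 g c x }

@[simp] theorem kProj_apply (g : ℤ) (x : M) : kProj 𝒜 ℳ g x = proj ℳ g x := rfl

theorem exists_scalar (h0 : 𝒜 0 = Submodule.span k {(1 : R)}) {r : R} (hr : r ∈ 𝒜 0) :
    ∃ c : k, algebraMap k R c = r := by
  rw [h0, Submodule.mem_span_singleton] at hr
  obtain ⟨c, rfl⟩ := hr
  exact ⟨c, Algebra.algebraMap_eq_smul_one c⟩

theorem exists_proj_smul (h0 : 𝒜 0 = Submodule.span k {(1 : R)}) {g : ℤ} {x : M} (hx : x ∈ ℳ g) (r : R) :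
    ∃ c : k, proj ℳ g (r • x) = c • x := by
  refine smul_induction 𝒜 (motive := fun r => ∃ c : k, proj ℳ g (r • x) = c • x) ⟨0, by simp⟩ ?_ ?_ r
  · intro a s hs
    by_cases ha : a = 0
    · subst ha
      obtain ⟨c, rfl⟩ := exists_scalar h0 hs
      exact ⟨c, by rw [algebraMap_smul, proj_smul_k 𝒜, proj_of_mem hx]⟩
    · exact ⟨0, by rw [proj_of_mem_ne (smul_mem hs hx) (fun e => ha (by omega)), zero_smul]⟩
  · rintro a b ⟨c, hc⟩ ⟨c', hc'⟩
    exact ⟨c + c', by simp [hc, hc', add_smul]⟩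

variable (ℳ) in
theorem span_inter (h0 : 𝒜 0 = Submodule.span k {(1 : R)}) (g : ℤ) (Q : Submodule k (kPiece 𝒜 ℳ g)) {y : M}
    (hy : y ∈ Submodule.span R ((↑) '' (Q : Set (kPiece 𝒜 ℳ g)))) :
    ∀ r : R, ∃ q ∈ Q, (q : M) = proj ℳ g (r • y) := by
  induction hy using Submodule.span_induction with
  | mem y hy =>
    intro r
    obtain ⟨q, hq, rfl⟩ := hy
    obtain ⟨c, hc⟩ := exists_proj_smul h0 (mem_kPiece.1 q.2) r
    exact ⟨c • q, Q.smul_mem c hq, by rw [hc]; rfl⟩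
  | zero => exact fun r => ⟨0, Q.zero_mem, by simp⟩
  | add y z _ _ hy hz =>
    intro r
    obtain ⟨q, hq, e⟩ := hy r
    obtain ⟨q', hq', e'⟩ := hz r
    exact ⟨q + q', Q.add_mem hq hq', by simp [e, e', smul_add]⟩
  | smul r' y _ ih =>
    intro r
    rw [smul_smul]
    exact ih _

theorem spanPiece_strictMono (h0 : 𝒜 0 = Submodule.span k {(1 : R)}) (g : ℤ) :
    StrictMono fun Q : Submodule k (kPiece 𝒜 ℳ g) => Submodule.span R (((↑) : kPiece 𝒜 ℳ g → M) '' (Q : Set (kPiece 𝒜 ℳ g))) := by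
  intro Q Q' hQ
  refine lt_of_le_of_ne (Submodule.span_mono (Set.image_mono hQ.le)) fun h => hQ.not_ge fun y hy => ?_
  have hy' : (y : M) ∈ Submodule.span R ((↑) '' (Q : Set (kPiece 𝒜 ℳ g))) :=
    h.ge (Submodule.subset_span ⟨y, hy, rfl⟩)
  obtain ⟨q, hq, e⟩ := span_inter ℳ h0 g Q hy' 1
  rw [one_smul, proj_of_mem (mem_kPiece.1 y.2)] at e
  rwa [← Subtype.ext e]

theorem finite_piece_of_noetherian (h0 : 𝒜 0 = Submodule.span k {(1 : R)}) [IsNoetherian R M] (g : ℤ) :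
    Module.Finite k (kPiece 𝒜 ℳ g) :=
  haveI : IsNoetherian k (kPiece 𝒜 ℳ g) :=
    isNoetherian_iff'.2 (spanPiece_strictMono h0 g).wellFoundedGT
  inferInstance

theorem finite_piece_of_artinian (h0 : 𝒜 0 = Submodule.span k {(1 : R)}) [IsArtinian R M] (g : ℤ) :
    Module.Finite k (kPiece 𝒜 ℳ g) :=
  haveI : IsArtinian k (kPiece 𝒜 ℳ g) := (spanPiece_strictMono h0 g).wellFoundedLT
  ((IsSemisimpleModule.finite_tfae (R := k) (M := kPiece 𝒜 ℳ g)).out 2 0).1 this

theorem proj_smul_eq_zero_of_lt (hpos : ∀ n : ℤ, n < 0 → 𝒜 n = ⊥) {N : ℤ} {x : M}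
    (hx : ∀ g < N, proj ℳ g x = 0) (r : R) : ∀ g < N, proj ℳ g (r • x) = 0 := by
  refine smul_induction 𝒜 (motive := fun r => ∀ g < N, proj ℳ g (r • x) = 0) (by simp) ?_ ?_ r
  · intro a s hs g hg
    rcases lt_or_ge a 0 with ha | ha
    · rw [hpos a ha, Submodule.mem_bot] at hs
      simp [hs]
    · rw [proj_smul' hs, hx (g - a) (by omega), smul_zero]
  · intro a b ha hb g hg
    simp [add_smul, ha g hg, hb g hg]

include 𝒜 in
theorem exists_bot_of_finite (hpos : ∀ n : ℤ, n < 0 → 𝒜 n = ⊥) [Module.Finite R M] :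
    ∃ N : ℤ, ∀ g < N, ∀ x ∈ ℳ g, x = 0 := by
  classical
  obtain ⟨S, hS⟩ := Module.Finite.fg_top (R := R) (M := M)
  let T : Finset ℤ := S.biUnion fun x => (finite_support ℳ x).toFinset
  refine ⟨(insert (0 : ℤ) T).min' (Finset.insert_nonempty _ _), fun g hg x hx => ?_⟩
  suffices hall : ∀ (y : M) (r : R), ∀ g < (insert (0 : ℤ) T).min' (Finset.insert_nonempty _ _),
      proj ℳ g (r • y) = 0 by
    simpa [proj_of_mem hx] using hall x 1 g hg
  intro y
  have hy : y ∈ Submodule.span R (S : Set M) := hS ▸ Submodule.mem_top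
  induction hy using Submodule.span_induction with
  | mem y hy =>
    intro r
    refine proj_smul_eq_zero_of_lt hpos (fun j hj => ?_) r
    by_contra hne
    have : j ∈ insert (0 : ℤ) T :=
      Finset.mem_insert_of_mem (Finset.mem_biUnion.2 ⟨y, hy, (Set.Finite.mem_toFinset _).2 hne⟩)
    exact absurd (Finset.min'_le _ _ this) (not_le.2 hj)
  | zero => intro r g _; simp
  | add y z _ _ hy hz => intro r g hg; simp [smul_add, hy r g hg, hz r g hg]
  | smul s y _ hy => intro r; rw [smul_smul]; exact hy _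

include 𝒜 in
theorem exists_top_of_artinian (hpos : ∀ n : ℤ, n < 0 → 𝒜 n = ⊥) [IsArtinian R M] :
    ∃ N : ℤ, ∀ g ≥ N, ∀ x ∈ ℳ g, x = 0 := by
  let P : ℕ → Submodule R M := fun n =>
    { carrier := {x | ∀ g < (n : ℤ), proj ℳ g x = 0}
      add_mem' := fun {x y} hx hy g hg => by simp [hx g hg, hy g hg]
      zero_mem' := fun g _ => by simp
      smul_mem' := fun r x hx => proj_smul_eq_zero_of_lt hpos hx r }
  have hP : Antitone P := fun a b hab x hx g hg => hx g (by omega)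
  obtain ⟨n, hn⟩ := IsArtinian.monotone_stabilizes (R := R) (M := M) ⟨fun a => OrderDual.toDual (P a), hP⟩
  refine ⟨n, fun g hg x hx => ?_⟩
  have h1 : x ∈ P n := fun j hj => proj_of_mem_ne hx (by omega)
  rw [show P n = P (max n (g + 1).toNat) from hn _ (le_max_left _ _)] at h1
  simpa [proj_of_mem hx] using h1 g (by omega)

/-! ## The pairing -/

section pairing

variable (hD : GrSeg.IsGDual R ℳ 𝒟 β)

include hD in
theorem beta_proj_left (n : ℤ) (d : D) {x : M} (hx : x ∈ ℳ (-n)) : β (proj 𝒟 n d) x = β d x := by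
  refine induction 𝒟 (motive := fun d => β (proj 𝒟 n d) x = β d x) (by simp) ?_ ?_ d
  · intro j e he
    by_cases hj : j = n
    · subst hj; rw [proj_of_mem he]
    · rw [proj_of_mem_ne he hj, map_zero, LinearMap.zero_apply, hD.vanish j e he (-n) (by omega) x hx]
  · intro a b ha hb
    simp [ha, hb]

include hD in
theorem beta_proj_right {n : ℤ} {d : D} (hd : d ∈ 𝒟 n) (x : M) : β d (proj ℳ (-n) x) = β d x := by
  refine induction ℳ (motive := fun x => β d (proj ℳ (-n) x) = β d x) (by simp) ?_ ?_ x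
  · intro j e he
    by_cases hj : j = -n
    · subst hj; rw [proj_of_mem he]
    · rw [proj_of_mem_ne he hj, map_zero, hD.vanish n d hd j hj e he]
  · intro a b ha hb
    simp [ha, hb]

include hD in
theorem beta_injective {d d' : D} (h : ∀ x, β d x = β d' x) : d = d' := by
  refine proj_ext 𝒟 fun n => sub_eq_zero.1 (hD.eq_zero n _ (sub_mem (proj_mem ..) (proj_mem ..)) fun x hx => ?_)
  rw [map_sub, LinearMap.sub_apply, beta_proj_left hD n d hx, beta_proj_left hD n d' hx, h, sub_self]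

include hD in
theorem eq_of_eqOn {n : ℤ} {d d' : D} (hd : d ∈ 𝒟 n) (hd' : d' ∈ 𝒟 n)
    (h : ∀ x ∈ ℳ (-n), β d x = β d' x) : d = d' :=
  sub_eq_zero.1 (hD.eq_zero n _ (sub_mem hd hd') fun x hx => by rw [map_sub, LinearMap.sub_apply, h x hx, sub_self])

include hD 𝒜 in
theorem beta_separates {x : M} (h : ∀ d, β d x = 0) : x = 0 := by
  refine eq_zero_of_proj ℳ fun g => ?_
  by_contra hne
  obtain ⟨φ, hφ⟩ : ∃ φ : M →ₗ[k] k, φ (proj ℳ g x) ≠ 0 := by
    obtain ⟨φ, hφ, -⟩ := Submodule.exists_le_ker_of_notMem (p := (⊥ : Submodule k M))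
      (v := proj ℳ g x) (by simpa using hne)
    exact ⟨φ, hφ⟩
  obtain ⟨d, hd, e⟩ := hD.exists_eq (-g) φ
  refine hφ ?_
  rw [← e _ (by rw [neg_neg]; exact proj_mem ..)]
  have := beta_proj_right hD hd x
  rw [neg_neg] at this
  rw [this, h]

variable (β) in
/-- The submodule of `M` orthogonal to a submodule of `D`. -/
def perp (P : Submodule R D) (hβ : ∀ (r : R) (d : D) (x : M), β (r • d) x = β d (r • x)) : Submodule R M where
  carrier := {x | ∀ d ∈ P, β d x = 0}
  add_mem' {x y} hx hy d hd := by simp [hx d hd, hy d hd]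
  zero_mem' d _ := by simp
  smul_mem' r x hx d hd := by rw [← hβ]; exact hx _ (P.smul_mem r hd)

/-- The double dual of a graded module with finite dimensional pieces. -/
theorem isGDual_flip (hD : GrSeg.IsGDual R ℳ 𝒟 β) (hfin : ∀ g, Module.Finite k (kPiece 𝒜 ℳ g)) : GrSeg.IsGDual R 𝒟 ℳ β.flip := by
  refine ⟨fun r x d => (hD.map_smul r d x).symm, fun n x hx m hm d hd => hD.vanish m d hd n (by omega) x hx,
    fun n x hx h => ?_, fun n φ => ?_⟩
  · refine beta_separates (𝒜 := 𝒜) hD fun d => ?_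
    rw [← beta_proj_left hD (-n) d (by rw [neg_neg]; exact hx)]
    exact h _ (proj_mem ..)
  · have := hfin n
    let T : kPiece 𝒜 𝒟 (-n) →ₗ[k] Module.Dual k (kPiece 𝒜 ℳ n) :=
      ((β.flip ∘ₗ (kPiece 𝒜 ℳ n).subtype).flip) ∘ₗ (kPiece 𝒜 𝒟 (-n)).subtype
    have hT : Function.Bijective T := by
      refine ⟨fun d d' h => Subtype.ext (eq_of_eqOn hD d.2 d'.2 fun x hx =>
        LinearMap.congr_fun h (⟨x, by rw [neg_neg] at hx; exact hx⟩ : kPiece 𝒜 ℳ n)), fun ψ => ?_⟩
      obtain ⟨g, hg⟩ := LinearMap.exists_extend ψ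
      obtain ⟨d, hd, e⟩ := hD.exists_eq (-n) g
      refine ⟨⟨d, hd⟩, LinearMap.ext fun x => ?_⟩
      exact (e x (by rw [neg_neg]; exact x.2)).trans (LinearMap.congr_fun hg x)
    let eT := LinearEquiv.ofBijective T hT
    obtain ⟨x, hx⟩ := (Module.evalEquiv k (kPiece 𝒜 ℳ n)).surjective
      ((φ ∘ₗ (kPiece 𝒜 𝒟 (-n)).subtype) ∘ₗ eT.symm.toLinearMap)
    refine ⟨x, x.2, fun d hd => ?_⟩
    have := LinearMap.congr_fun hx (eT ⟨d, hd⟩)
    simp only [LinearMap.coe_comp, LinearEquiv.coe_coe, Function.comp_apply, LinearEquiv.symm_apply_apply,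
      Submodule.subtype_apply] at this
    exact this

include hD in
theorem mem_of_perp (hfl : GrSeg.IsGDual R 𝒟 ℳ β.flip) {P : Submodule R D} (hP : P.IsHomogeneous 𝒟)
    {d : D} (h : ∀ x ∈ perp β P hD.map_smul, β d x = 0) : d ∈ P := by
  refine mem_of_proj_mem 𝒟 P fun n => ?_
  by_contra hn
  obtain ⟨φ, hφ, hker⟩ := Submodule.exists_le_ker_of_notMem (p := P.restrictScalars k) hn
  obtain ⟨x, hxmem, hx⟩ := hfl.exists_eq (-n) φ
  rw [neg_neg] at hx
  have hperp : x ∈ perp β P hD.map_smul := fun p hp => by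
    rw [← beta_proj_left hD n p hxmem]
    exact (hx _ (proj_mem ..)).trans (LinearMap.mem_ker.1 (hker (hP n hp)))
  exact hφ ((hx _ (proj_mem ..)).symm.trans ((beta_proj_left hD n d hxmem).trans (h x hperp)))

end pairing

/-! ## Lowest forms of a submodule -/

variable (𝒜 𝒟) in
/-- The homogeneous submodule of the forms of lowest degree of the elements of `P`. -/
def lowForms (P : Submodule R D) : Submodule R D where
  carrier := {y | ∀ j, ∃ p ∈ P, (∀ i < j, proj 𝒟 i p = 0) ∧ proj 𝒟 j p = proj 𝒟 j y}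
  add_mem' {y z} hy hz j := by
    obtain ⟨p, hp, h1, h2⟩ := hy j
    obtain ⟨p', hp', h1', h2'⟩ := hz j
    exact ⟨p + p', P.add_mem hp hp', fun i hi => by simp [h1 i hi, h1' i hi], by simp [h2, h2']⟩
  zero_mem' j := ⟨0, P.zero_mem, fun i _ => by simp, rfl⟩
  smul_mem' r y hy j := by
    refine smul_induction 𝒜 (motive := fun r => ∃ p ∈ P, (∀ i < j, proj 𝒟 i p = 0) ∧ proj 𝒟 j p = proj 𝒟 j (r • y))
      ⟨0, P.zero_mem, fun i _ => by simp, by simp⟩ ?_ ?_ r
    · intro a s hs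
      obtain ⟨p, hp, h1, h2⟩ := hy (j - a)
      refine ⟨s • p, P.smul_mem s hp, fun i hi => ?_, ?_⟩
      · rw [proj_smul' hs, h1 (i - a) (by omega), smul_zero]
      · rw [proj_smul' hs, proj_smul' hs, h2]
    · rintro a b ⟨p, hp, h1, h2⟩ ⟨p', hp', h1', h2'⟩
      exact ⟨p + p', P.add_mem hp hp', fun i hi => by simp [h1 i hi, h1' i hi], by simp [h2, h2', add_smul]⟩

theorem lowForms_isHomogeneous (P : Submodule R D) : (lowForms 𝒜 𝒟 P).IsHomogeneous 𝒟 := by
  intro g y hy j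
  by_cases hj : j = g
  · subst hj
    obtain ⟨p, hp, h1, h2⟩ := hy j
    exact ⟨p, hp, h1, h2.trans (proj_of_mem (proj_mem ..)).symm⟩
  · exact ⟨0, P.zero_mem, fun i _ => by simp,
      (map_zero _).trans (proj_of_mem_ne (proj_mem (ℳ := 𝒟) g y) (fun e => hj e.symm)).symm⟩

theorem lowForms_mono {P Q : Submodule R D} (h : P ≤ Q) : lowForms 𝒜 𝒟 P ≤ lowForms 𝒜 𝒟 Q := fun _ hy j =>
  let ⟨p, hp, h1, h2⟩ := hy j
  ⟨p, h hp, h1, h2⟩

theorem le_of_lowForms_le {P Q : Submodule R D} (hPQ : P ≤ Q) (h : lowForms 𝒜 𝒟 Q ≤ lowForms 𝒜 𝒟 P) (N : ℤ)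
    (hN : ∀ g ≥ N, ∀ x ∈ 𝒟 g, x = 0) : Q ≤ P := by
  have main : ∀ (m : ℕ) (q : D), q ∈ Q → (∀ i < N - m, proj 𝒟 i q = 0) → q ∈ P := by
    intro m
    induction m with
    | zero =>
      intro q _ hq
      rw [eq_zero_of_proj 𝒟 (fun g => if hg : g < N then hq g (by simpa using hg) else
        hN g (not_lt.1 hg) _ (proj_mem ..))]
      exact P.zero_mem
    | succ m IH =>
      intro q hq hlow
      have hy : proj 𝒟 (N - (m + 1 : ℕ)) q ∈ lowForms 𝒜 𝒟 Q := fun j => by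
        by_cases hj : j = N - (m + 1 : ℕ)
        · subst hj
          exact ⟨q, hq, hlow, (proj_of_mem (proj_mem ..)).symm⟩
        · exact ⟨0, Q.zero_mem, fun i _ => by simp,
            (map_zero _).trans (proj_of_mem_ne (proj_mem (ℳ := 𝒟) _ q) (fun e => hj e.symm)).symm⟩
      obtain ⟨p, hp, h1, h2⟩ := h hy (N - (m + 1 : ℕ))
      rw [proj_of_mem (proj_mem ..)] at h2
      have := IH (q - p) (Q.sub_mem hq (hPQ hp)) fun i hi => by
        rw [map_sub]
        rcases lt_or_ge i (N - (m + 1 : ℕ)) with hi' | hi'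
        · rw [hlow i hi', h1 i hi', sub_zero]
        · obtain rfl : i = N - (m + 1 : ℕ) := by push_cast at hi' ⊢; omega
          rw [h2, sub_self]
      simpa using P.add_mem this hp
  intro q hq
  classical
  refine main ((N - (insert N (finite_support 𝒟 q).toFinset).min' (Finset.insert_nonempty _ _)).toNat) q hq
    fun i hi => ?_
  by_contra hne
  have h1 := Finset.min'_le _ _ (Finset.mem_insert_of_mem (a := i) (b := N) ((Set.Finite.mem_toFinset (finite_support 𝒟 q)).2 hne))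
  have h2 := Finset.min'_le _ _ (Finset.mem_insert_self N (finite_support 𝒟 q).toFinset)
  omega

end Groth.Agent.GrDualLib
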