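import Groth.Agent.GrDualLib.Basic

/-!
# Finiteness of graded duals; maps into graded duals of the ring
-/

set_option autoImplicit false
set_option linter.unusedSectionVars false
set_option linter.style.haveILetI false

universe u

open DirectSum Groth.Agent.GrLib

namespace Groth.Agent.GrDualLib

variable {k : Type u} [Field k] {R : Type u} [CommRing R] [Algebra k R]
  {𝒜 : ℤ → Submodule k R} [GradedAlgebra 𝒜]
variable {M : Type u} [AddCommGroup M] [Module R M] [Module k M] [IsScalarTower k R M]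
  {τ : Type u} [SetLike τ M] [AddSubgroupClass τ M] {ℳ : ℤ → τ} [Decomposition ℳ] [SetLike.GradedSMul 𝒜 ℳ]
variable {D : Type u} [AddCommGroup D] [Module R D] [Module k D] [IsScalarTower k R D]
  {τ' : Type u} [SetLike τ' D] [AddSubgroupClass τ' D] {𝒟 : ℤ → τ'} [Decomposition 𝒟] [SetLike.GradedSMul 𝒜 𝒟]
variable {β : D →ₗ[k] M →ₗ[k] k}

theorem dual_bdd_above (hD : GrSeg.IsGDual R ℳ 𝒟 β) {N : ℤ} (hN : ∀ g < N, ∀ x ∈ ℳ g, x = 0) :
    ∀ g ≥ 1 - N, ∀ d ∈ 𝒟 g, d = 0 := fun g hg d hd =>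
  hD.eq_zero g d hd fun x hx => by rw [hN (-g) (by omega) x hx, map_zero]

include 𝒜 in
theorem isArtinian_dual (hpos : ∀ n : ℤ, n < 0 → 𝒜 n = ⊥) (h0 : 𝒜 0 = Submodule.span k {(1 : R)})
    [IsNoetherianRing R] [Module.Finite R M] (hD : GrSeg.IsGDual R ℳ 𝒟 β) : IsArtinian R D := by
  haveI : IsNoetherian R M := isNoetherian_of_isNoetherianRing_of_finite R M
  have hfl := isGDual_flip hD (finite_piece_of_noetherian (𝒜 := 𝒜) h0)
  obtain ⟨N, hN⟩ := exists_bot_of_finite (𝒜 := 𝒜) (ℳ := ℳ) hpos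
  haveI : WellFoundedGT (Submodule R M) := isNoetherian_iff'.1 inferInstance
  exact StrictAnti.wellFoundedLT (f := fun P : Submodule R D => perp β (lowForms 𝒜 𝒟 P) hD.map_smul)
    fun P Q hPQ => by
      refine lt_of_le_of_ne (fun x hx d hd => hx d (lowForms_mono hPQ.le hd)) fun h => hPQ.not_ge ?_
      refine le_of_lowForms_le (𝒜 := 𝒜) hPQ.le (fun d hd => ?_) (1 - N) (dual_bdd_above hD hN)
      exact mem_of_perp hD hfl (lowForms_isHomogeneous P) fun x hx => h.ge hx d hd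

include 𝒜 in
theorem finite_dual (h0 : 𝒜 0 = Submodule.span k {(1 : R)}) [IsArtinian R M]
    (hD : GrSeg.IsGDual R ℳ 𝒟 β) : Module.Finite R D := by
  classical
  have hfl := isGDual_flip hD (finite_piece_of_artinian (𝒜 := 𝒜) h0)
  let S : Set (Submodule R M) := {Q | ∃ T : Finset D, (∀ x ∈ T, ∃ g, x ∈ 𝒟 g) ∧
    perp β (Submodule.span R (T : Set D)) hD.map_smul = Q}
  obtain ⟨Q, ⟨T, hT, hQ⟩, hmin⟩ := IsArtinian.set_has_minimal S ⟨_, ∅, by simp, rfl⟩
  refine ⟨⟨T, eq_top_iff.2 fun d _ => mem_of_proj_mem 𝒟 _ fun g => ?_⟩⟩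
  refine mem_of_perp hD hfl (isHomogeneous_span (𝒜 := 𝒜) fun x hx => hT x hx) fun x hx => ?_
  have hle : perp β (Submodule.span R ((insert (proj 𝒟 g d) T : Finset D) : Set D)) hD.map_smul ≤ Q := by
    rw [← hQ]
    exact fun y hy e he => hy e (Submodule.span_mono (by simp) he)
  have heq := eq_of_le_of_not_lt hle (hmin _ ⟨_, fun y hy => by
    rcases Finset.mem_insert.1 hy with rfl | hy
    · exact ⟨g, proj_mem ..⟩
    · exact hT y hy, rfl⟩)
  rw [hQ, ← heq] at hx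
  exact hx _ (Submodule.subset_span (by simp))

/-! ## Maps into the dual of the ring -/

section toDual

variable {βR : D →ₗ[k] R →ₗ[k] k}

include 𝒜 in
theorem exists_toDual (hD : GrSeg.IsGDual R 𝒜 𝒟 βR) (s : ℤ) (μ : M →ₗ[k] k) :
    ∃ ψ : M →ₗ[R] D, GrLC.IsGrHomDeg ℳ 𝒟 ψ (-s) ∧
      ∀ (x : M) (r : R), βR (ψ x) r = μ (proj ℳ s (r • x)) := by
  have hhom : ∀ g, ∀ x ∈ ℳ g, ∃ d ∈ 𝒟 (g + -s), ∀ r, βR d r = μ (proj ℳ s (r • x)) := by
    intro g x hx
    let L : R →ₗ[k] k := μ ∘ₗ kProj 𝒜 ℳ s ∘ₗ (LinearMap.toSpanSingleton R M x).restrictScalars k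
    obtain ⟨d, hd, e⟩ := hD.exists_eq (g + -s) L
    refine ⟨d, hd, fun r => ?_⟩
    refine induction 𝒜 (motive := fun r => βR d r = μ (proj ℳ s (r • x))) (by simp) ?_ ?_ r
    · intro a t ht
      by_cases ha : a = -(g + -s)
      · subst ha
        exact e t ht
      · rw [hD.vanish _ d hd a ha t ht, proj_of_mem_ne (smul_mem ht hx) (fun e' => ha (by omega)), map_zero]
    · intro a b ha hb
      simp [ha, hb, add_smul]
  have hall : ∀ x : M, ∃ d : D, ∀ r, βR d r = μ (proj ℳ s (r • x)) := fun x =>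
    induction ℳ (motive := fun x => ∃ d : D, ∀ r, βR d r = μ (proj ℳ s (r • x)))
      ⟨0, fun r => by simp⟩ (fun g x hx => let ⟨d, _, e⟩ := hhom g x hx; ⟨d, e⟩)
      (fun a b ⟨d, hd⟩ ⟨d', hd'⟩ => ⟨d + d', fun r => by simp [hd r, hd' r, smul_add]⟩) x
  choose ψ hψ using hall
  refine ⟨{ toFun := ψ
            map_add' := fun x y => beta_injective hD fun r => by simp [hψ, smul_add]
            map_smul' := fun r x => beta_injective hD fun t => by
              simp only [RingHom.id_apply, hD.map_smul, hψ, smul_smul, smul_eq_mul, mul_comm r] },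
    fun g x hx => ?_, hψ⟩
  obtain ⟨d, hd, e⟩ := hhom g x hx
  have h' : ψ x = d := beta_injective hD fun r => by rw [hψ, e]
  show ψ x ∈ _
  rw [h']
  exact hd

include 𝒜 in
theorem isStarInj_dual (hD : GrSeg.IsGDual R 𝒜 𝒟 βR) : GrLC.IsStarInj 𝒜 𝒟 := by
  intro A B f hf hinj g hg
  letI : Module k A.carrier := Module.compHom _ (algebraMap k R)
  letI : Module k B.carrier := Module.compHom _ (algebraMap k R)
  haveI : IsScalarTower k R A.carrier := IsScalarTower.of_algebraMap_smul fun _ _ => rfl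
  haveI : IsScalarTower k R B.carrier := IsScalarTower.of_algebraMap_smul fun _ _ => rfl
  let lam : A.carrier →ₗ[k] k := βR.flip 1 ∘ₗ g.restrictScalars k
  obtain ⟨inv, hinv⟩ := (f.restrictScalars k).exists_leftInverse_of_injective (LinearMap.ker_eq_bot.2 hinj)
  obtain ⟨h, hh, hval⟩ := exists_toDual (ℳ := B.gr) hD 0 (lam ∘ₗ inv)
  refine ⟨h, fun j x hx => by simpa using hh j x hx, LinearMap.ext fun a => beta_injective hD fun r => ?_⟩
  have e : inv (f (proj A.gr 0 (r • a))) = proj A.gr 0 (r • a) := LinearMap.congr_fun hinv _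
  rw [LinearMap.comp_apply, hval, ← map_smul f, proj_map hf, LinearMap.comp_apply, e]
  show βR (g (proj A.gr 0 (r • a))) 1 = βR (g a) r
  rw [← proj_map hg, beta_proj_left hD 0 _ (by rw [neg_zero]; exact SetLike.one_mem_graded 𝒜), map_smul,
    hD.map_smul, smul_eq_mul, mul_one]

include 𝒜 in
theorem exists_embedding [IsArtinian R M] (hD : GrSeg.IsGDual R 𝒜 𝒟 βR) :
    ∃ (t : ℕ) (sh : Fin t → ℤ) (f : M →ₗ[R] (Fin t → D)), Function.Injective f ∧
      ∀ (i : Fin t) (g : ℤ) (x : M), x ∈ ℳ g → f x i ∈ 𝒟 (g + sh i) := by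
  classical
  let S : Set (Submodule R M) := {K | ∃ (t : ℕ) (sh : Fin t → ℤ) (f : M →ₗ[R] (Fin t → D)),
    LinearMap.ker f = K ∧ ∀ (i : Fin t) (g : ℤ) (x : M), x ∈ ℳ g → f x i ∈ 𝒟 (g + sh i)}
  obtain ⟨K, ⟨t, sh, f, hK, hf⟩, hmin⟩ := IsArtinian.set_has_minimal S
    ⟨_, 0, Fin.elim0, 0, rfl, fun i => i.elim0⟩
  refine ⟨t, sh, f, LinearMap.ker_eq_bot.1 ((Submodule.eq_bot_iff _).2 fun x hx => ?_), hf⟩
  by_contra hne
  obtain ⟨g, hg⟩ : ∃ g, proj ℳ g x ≠ 0 := by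
    by_contra h
    push Not at h
    exact hne (eq_zero_of_proj ℳ h)
  have hgK : proj ℳ g x ∈ LinearMap.ker f := by
    refine LinearMap.mem_ker.2 (funext fun i => ?_)
    have h1 : GrLC.IsGrHomDeg ℳ 𝒟 (LinearMap.proj i ∘ₗ f) (sh i) := fun j y hy => hf i j y hy
    have h2 : (LinearMap.proj i ∘ₗ f) x = 0 := by simp [LinearMap.mem_ker.1 hx]
    have := proj_map_deg h1 g x
    rw [h2, map_zero] at this
    exact this.symm
  obtain ⟨μ, hμ, -⟩ := Submodule.exists_le_ker_of_notMem (p := (⊥ : Submodule k M))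
    (v := proj ℳ g x) (by simpa using hg)
  obtain ⟨ψ, hψ, hval⟩ := exists_toDual (ℳ := ℳ) hD g μ
  let f' : M →ₗ[R] (Fin (t + 1) → D) := LinearMap.pi (Fin.cons ψ fun i => LinearMap.proj i ∘ₗ f)
  have hlt : LinearMap.ker f' < K := by
    rw [← hK]
    refine lt_of_le_of_ne (fun y hy => LinearMap.mem_ker.2 (funext fun i => ?_)) fun h => hμ ?_
    · have := congrFun (LinearMap.mem_ker.1 hy) i.succ
      simpa [f'] using this
    · have h' : proj ℳ g x ∈ LinearMap.ker f' := h ▸ hgK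
      have h'' : ψ (proj ℳ g x) = 0 := by simpa [f'] using congrFun (LinearMap.mem_ker.1 h') 0
      have := hval (proj ℳ g x) 1
      rw [h'', map_zero, LinearMap.zero_apply, one_smul, proj_of_mem (proj_mem ..)] at this
      exact this.symm
  refine hmin (LinearMap.ker f') ⟨t + 1, Fin.cons (-g) sh, f', rfl, fun i => ?_⟩ hlt
  refine Fin.cases ?_ (fun j => ?_) i <;> intro a y hy
  · simpa [f'] using hψ a y hy
  · simpa [f'] using hf j a y hy

end toDual

/-! ## Elements killed by the positive part -/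

theorem exists_socle {P : Submodule R D} (hP : P.IsHomogeneous 𝒟) (hne : P ≠ ⊥) {N : ℤ}
    (hN : ∀ g ≥ N, ∀ d ∈ 𝒟 g, d = 0) :
    ∃ (n : ℤ) (y : D), y ∈ P ∧ y ∈ 𝒟 n ∧ y ≠ 0 ∧ ∀ a : ℤ, 0 < a → ∀ r ∈ 𝒜 a, r • y = 0 := by
  classical
  obtain ⟨x, hx, hx0⟩ := Submodule.exists_mem_ne_zero_of_ne_bot hne
  obtain ⟨g, hg⟩ : ∃ g, proj 𝒟 g x ≠ 0 := by
    by_contra h
    push Not at h
    exact hx0 (eq_zero_of_proj 𝒟 h)
  obtain ⟨n, ⟨y, hy, hyn, hy0⟩, hmax⟩ := Int.exists_greatest_of_bdd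
    (P := fun n => ∃ y ∈ P, y ∈ 𝒟 n ∧ y ≠ 0)
    ⟨N, fun n ⟨y, _, hyn, hy0⟩ => le_of_not_ge fun h => hy0 (hN n h y hyn)⟩
    ⟨g, proj 𝒟 g x, hP g hx, proj_mem .., hg⟩
  refine ⟨n, y, hy, hyn, hy0, fun a ha r hr => ?_⟩
  by_contra h
  have := hmax (a + n) ⟨r • y, P.smul_mem r hy, smul_mem hr hyn, h⟩
  omega

theorem exists_smul_eq (hpos : ∀ n : ℤ, n < 0 → 𝒜 n = ⊥) (h0 : 𝒜 0 = Submodule.span k {(1 : R)}) {y : D}
    (hy : ∀ a : ℤ, 0 < a → ∀ r ∈ 𝒜 a, r • y = 0) (r : R) : ∃ c : k, r • y = c • y := by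
  refine smul_induction 𝒜 (motive := fun r => ∃ c : k, r • y = c • y) ⟨0, by simp⟩ ?_ ?_ r
  · intro a s hs
    rcases lt_trichotomy a 0 with ha | rfl | ha
    · rw [hpos a ha, Submodule.mem_bot] at hs
      exact ⟨0, by simp [hs]⟩
    · obtain ⟨c, rfl⟩ := exists_scalar h0 hs
      exact ⟨c, algebraMap_smul R c y⟩
    · exact ⟨0, by rw [hy a ha s hs, zero_smul]⟩
  · rintro a b ⟨c, hc⟩ ⟨c', hc'⟩
    exact ⟨c + c', by simp [hc, hc', add_smul]⟩

theorem smul_eq_zero_of_mem_span {S : Set R} {y : D} (h : ∀ r ∈ S, r • y = 0) {r : R}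
    (hr : r ∈ Ideal.span S) : r • y = 0 :=
  (Submodule.span_le (p := LinearMap.ker (LinearMap.toSpanSingleton R D y))).2
    (fun s hs => by simpa using h s hs) hr |> fun h' => by simpa using h'

end Groth.Agent.GrDualLib
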